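import Mathlib

/-! Partition stabilisers in symmetric groups. -/

namespace CfsgLib.ClassGeo.PermSub

variable {Ω : Type*}

/-- the set of permutations preserving a labelling-partition -/
def partSet {b : ℕ} (f : Ω → Fin b) : Set (Equiv.Perm Ω) :=
  {g | ∀ x y : Ω, f x = f y ↔ f (g x) = f (g y)}

/-- the partition stabiliser as a subgroup -/
def partStab {b : ℕ} (f : Ω → Fin b) : Subgroup (Equiv.Perm Ω) where
  carrier := partSet f
  mul_mem' := by
    intro a b ha hb x y
    rw [hb x y, ha (b x) (b y)]; rfl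
  one_mem' := by intro x y; rfl
  inv_mem' := by
    intro a ha x y
    rw [ha (a⁻¹ x) (a⁻¹ y)]
    simp

theorem closure_partSet {b : ℕ} (f : Ω → Fin b) : Subgroup.closure (partSet f) = partStab f :=
  Subgroup.closure_eq (partStab f)

theorem mem_partStab {b : ℕ} (f : Ω → Fin b) (g : Equiv.Perm Ω) :
    g ∈ partStab f ↔ ∀ x y : Ω, f x = f y ↔ f (g x) = f (g y) := Iff.rfl

/-- swaps inside one block belong to the partition stabiliser -/
theorem swap_mem_partStab [DecidableEq Ω] {b : ℕ} (f : Ω → Fin b) {u v : Ω} (h : f u = f v) :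
    Equiv.swap u v ∈ partStab f := by
  rw [mem_partStab]
  have key : ∀ x, f (Equiv.swap u v x) = f x := by
    intro x
    by_cases hxu : x = u
    · subst hxu; rw [Equiv.swap_apply_left, h]
    · by_cases hxv : x = v
      · subst hxv; rw [Equiv.swap_apply_right, h]
      · rw [Equiv.swap_apply_of_ne_of_ne hxu hxv]
  intro x y
  rw [key, key]

/-- a block-permuting permutation -/
def blockPerm {b a : ℕ} (f : Ω → Fin b) (e : ∀ i : Fin b, {x : Ω // f x = i} ≃ Fin a)
    (σ : Equiv.Perm (Fin b)) : Equiv.Perm Ω where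
  toFun x := ((e (σ (f x))).symm (e (f x) ⟨x, rfl⟩)).1
  invFun y := ((e (σ⁻¹ (f y))).symm (e (f y) ⟨y, rfl⟩)).1
  left_inv := by
    have aux : ∀ (y : Ω) (i : Fin b) (h : f y = i),
        ((e (σ⁻¹ (f y))).symm (e (f y) ⟨y, rfl⟩)).1 = ((e (σ⁻¹ i)).symm (e i ⟨y, h⟩)).1 := by
      intro y i h; subst h; rfl
    have aux2 : ∀ (x : Ω) (i j : Fin b) (h : f x = i) (hj : j = i),
        ((e j).symm (e i ⟨x, h⟩)).1 = x := by
      intro x i j h hj; subst hj; simp
    intro x
    show ((e (σ⁻¹ (f _))).symm (e (f _) ⟨_, rfl⟩)).1 = x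
    rw [aux _ (σ (f x)) ((e (σ (f x))).symm (e (f x) ⟨x, rfl⟩)).2]
    simp only [Subtype.coe_eta, Equiv.apply_symm_apply]
    exact aux2 x (f x) _ rfl (by simp)
  right_inv := by
    have aux : ∀ (y : Ω) (i : Fin b) (h : f y = i),
        ((e (σ (f y))).symm (e (f y) ⟨y, rfl⟩)).1 = ((e (σ i)).symm (e i ⟨y, h⟩)).1 := by
      intro y i h; subst h; rfl
    have aux2 : ∀ (x : Ω) (i j : Fin b) (h : f x = i) (hj : j = i),
        ((e j).symm (e i ⟨x, h⟩)).1 = x := by
      intro x i j h hj; subst hj; simp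
    intro x
    show ((e (σ (f _))).symm (e (f _) ⟨_, rfl⟩)).1 = x
    rw [aux _ (σ⁻¹ (f x)) ((e (σ⁻¹ (f x))).symm (e (f x) ⟨x, rfl⟩)).2]
    simp only [Subtype.coe_eta, Equiv.apply_symm_apply]
    exact aux2 x (f x) _ rfl (by simp)

theorem blockPerm_f {b a : ℕ} (f : Ω → Fin b) (e : ∀ i : Fin b, {x : Ω // f x = i} ≃ Fin a)
    (σ : Equiv.Perm (Fin b)) (x : Ω) : f (blockPerm f e σ x) = σ (f x) :=
  ((e (σ (f x))).symm (e (f x) ⟨x, rfl⟩)).2

theorem blockPerm_mem {b a : ℕ} (f : Ω → Fin b) (e : ∀ i : Fin b, {x : Ω // f x = i} ≃ Fin a)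
    (σ : Equiv.Perm (Fin b)) : blockPerm f e σ ∈ partStab f := by
  rw [mem_partStab]
  intro x y
  rw [blockPerm_f f e σ x, blockPerm_f f e σ y]
  exact σ.injective.eq_iff.symm

/-- the partition stabiliser is maximal -/
theorem partStab_isCoatom [Fintype Ω] [DecidableEq Ω] (a b : ℕ) (ha : 2 ≤ a) (hb : 2 ≤ b)
    (f : Ω → Fin b) (hf : ∀ i : Fin b, Nat.card {x : Ω // f x = i} = a) :
    IsCoatom (partStab f) := by
  classical
  have he : ∀ i : Fin b, Nonempty ({x : Ω // f x = i} ≃ Fin a) := by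
    intro i
    have := hf i
    rw [Nat.card_eq_fintype_card] at this
    exact ⟨Fintype.equivFinOfCardEq this⟩
  let e : ∀ i : Fin b, {x : Ω // f x = i} ≃ Fin a := fun i => (he i).some
  have hpt : ∀ i : Fin b, ∃ x y : Ω, f x = i ∧ f y = i ∧ x ≠ y := by
    intro i
    refine ⟨(e i).symm ⟨0, by omega⟩, (e i).symm ⟨1, by omega⟩, ((e i).symm _).2, ((e i).symm _).2, ?_⟩
    intro h
    have := Subtype.ext (a1 := (e i).symm ⟨0, by omega⟩) (a2 := (e i).symm ⟨1, by omega⟩) h
    have := (e i).symm.injective this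
    simp at this
  constructor
  · intro htop
    obtain ⟨x, y, hx, hy, hxy⟩ := hpt ⟨0, by omega⟩
    obtain ⟨z, _, hz, _, _⟩ := hpt ⟨1, by omega⟩
    have hfz : f z ≠ f x := by rw [hz, hx]; simp
    have hmem : Equiv.swap y z ∈ partStab f := by rw [htop]; trivial
    have hyz : y ≠ z := by
      rintro rfl
      exact hfz (by rw [hx, ← hy])
    have hxz : x ≠ z := by
      rintro rfl
      exact hfz rfl
    have := ((mem_partStab f _).mp hmem x y).mp (by rw [hx, hy])
    rw [Equiv.swap_apply_of_ne_of_ne hxy hxz, Equiv.swap_apply_left] at this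
    exact hfz this.symm
  · intro L hL
    -- an element of L splitting a block
    have hex : ∃ g ∈ L, ∃ x y : Ω, f x = f y ∧ f (g x) ≠ f (g y) := by
      obtain ⟨g, hgL, hgK⟩ := SetLike.exists_of_lt hL
      rw [mem_partStab] at hgK
      push Not at hgK
      obtain ⟨x, y, hxy⟩ := hgK
      rcases hxy with ⟨h1, h2⟩ | ⟨h1, h2⟩
      · exact ⟨g, hgL, x, y, h1, h2⟩
      · exact ⟨g⁻¹, L.inv_mem hgL, g x, g y, h2, by simpa using h1⟩
    obtain ⟨g, hgL, x, y, hxy, hne⟩ := hex
    have hxy' : x ≠ y := by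
      rintro rfl; exact hne rfl
    -- a swap across blocks in L
    have hs : Equiv.swap (g x) (g y) ∈ L := by
      rw [Equiv.swap_apply_apply]
      exact L.mul_mem (L.mul_mem hgL (hL.le (swap_mem_partStab f hxy))) (L.inv_mem hgL)
    obtain ⟨u, v, hu⟩ : ∃ u v : Ω, u = g x ∧ v = g y := ⟨_, _, rfl, rfl⟩
    rw [← hu.1, ← hu.2] at hs hne
    have hall : ∀ p q : Ω, p ≠ q → Equiv.swap p q ∈ L := by
      intro p q hpq
      by_cases hfpq : f p = f q
      · exact hL.le (swap_mem_partStab f hfpq)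
      -- a permutation of the blocks
      let τ : Equiv.Perm (Fin b) := Equiv.swap (f u) (f p)
      have hτu : τ (f u) = f p := Equiv.swap_apply_left _ _
      have hτv : τ (f v) ≠ f p := by
        rw [← hτu]; exact fun h => hne (τ.injective h).symm
      let σ : Equiv.Perm (Fin b) := Equiv.swap (τ (f v)) (f q) * τ
      have hσu : σ (f u) = f p := by
        show Equiv.swap (τ (f v)) (f q) (τ (f u)) = f p
        rw [hτu, Equiv.swap_apply_of_ne_of_ne (Ne.symm hτv) hfpq]
      have hσv : σ (f v) = f q := by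
        show Equiv.swap (τ (f v)) (f q) (τ (f v)) = f q
        exact Equiv.swap_apply_left _ _
      let h := blockPerm f e σ
      have hh : h ∈ L := hL.le (blockPerm_mem f e σ)
      have h1 : Equiv.swap (h u) (h v) ∈ L := by
        rw [Equiv.swap_apply_apply]
        exact L.mul_mem (L.mul_mem hh hs) (L.inv_mem hh)
      have hfu : f (h u) = f p := by rw [blockPerm_f f e σ u, hσu]
      have hfv : f (h v) = f q := by rw [blockPerm_f f e σ v, hσv]
      -- move to p
      let t1 := Equiv.swap (h u) p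
      have ht1 : t1 ∈ L := hL.le (swap_mem_partStab f hfu)
      have h2 : Equiv.swap p (t1 (h v)) ∈ L := by
        have : Equiv.swap (t1 (h u)) (t1 (h v)) ∈ L := by
          rw [Equiv.swap_apply_apply]
          exact L.mul_mem (L.mul_mem ht1 h1) (L.inv_mem ht1)
        rwa [Equiv.swap_apply_left] at this
      have ht1v : t1 (h v) = h v := by
        apply Equiv.swap_apply_of_ne_of_ne
        · intro hc; apply hfpq; rw [← hfu, ← hc, hfv]
        · intro hc; apply hfpq; rw [← hc, hfv]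
      rw [ht1v] at h2
      let t2 := Equiv.swap (h v) q
      have ht2 : t2 ∈ L := hL.le (swap_mem_partStab f hfv)
      have h3 : Equiv.swap (t2 p) (t2 (h v)) ∈ L := by
        rw [Equiv.swap_apply_apply]
        exact L.mul_mem (L.mul_mem ht2 h2) (L.inv_mem ht2)
      have ht2p : t2 p = p := by
        apply Equiv.swap_apply_of_ne_of_ne
        · intro hc; apply hfpq; rw [hc, hfv]
        · exact hpq
      rw [ht2p, Equiv.swap_apply_left] at h3
      exact h3
    rw [eq_top_iff, ← Equiv.Perm.closure_isSwap, Subgroup.closure_le]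
    rintro s ⟨p, q, hpq, rfl⟩
    exact hall p q hpq

/-- maximality transports along isomorphisms -/
theorem isCoatom_map {A B : Type*} [Group A] [Group B] (Θ : A ≃* B) (S : Subgroup A)
    (h : IsCoatom S) : IsCoatom (S.map Θ.toMonoidHom) := by
  have : IsCoatom (Θ.mapSubgroup S) := (OrderIso.isCoatom_iff (Θ.mapSubgroup) S).mpr h
  exact this

end CfsgLib.ClassGeo.PermSub

open scoped Pointwise

namespace CfsgLib.ClassGeo.PermSub

variable {Ω : Type*}

theorem exists_block_perm [Fintype Ω] [DecidableEq Ω] (a b : ℕ)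
    (f : Ω → Fin b) (hf : ∀ i : Fin b, Nat.card {x : Ω // f x = i} = a) (σ : Equiv.Perm (Fin b)) :
    ∃ g ∈ partStab f, ∀ x, f (g x) = σ (f x) := by
  classical
  have he : ∀ i : Fin b, Nonempty ({x : Ω // f x = i} ≃ Fin a) := by
    intro i
    have := hf i
    rw [Nat.card_eq_fintype_card] at this
    exact ⟨Fintype.equivFinOfCardEq this⟩
  let e : ∀ i : Fin b, {x : Ω // f x = i} ≃ Fin a := fun i => (he i).some
  exact ⟨blockPerm f e σ, blockPerm_mem f e σ, blockPerm_f f e σ⟩

theorem smul_set_eq_iff (g : Equiv.Perm Ω) (A : Set Ω) : g • A = A ↔ ∀ x, g x ∈ A ↔ x ∈ A := by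
  constructor
  · intro h x
    constructor
    · intro hx
      rw [← h] at hx
      obtain ⟨y, hy, hyx⟩ := hx
      have : y = x := g.injective hyx
      rwa [← this]
    · intro hx
      rw [← h]
      exact ⟨x, hx, rfl⟩
  · intro h
    ext y
    constructor
    · rintro ⟨x, hx, rfl⟩
      exact (h x).mpr hx
    · intro hy
      refine ⟨g⁻¹ y, (h _).mp (by simpa using hy), by simp⟩

/-- the point stabiliser as a symmetric group -/
noncomputable def ptEquiv [Fintype Ω] [DecidableEq Ω] (x₀ : Ω) :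
    Equiv.Perm {x : Ω // x ≠ x₀} ≃* MulAction.stabilizer (Equiv.Perm Ω) x₀ :=
  MulEquiv.ofBijective
    ((Equiv.Perm.ofSubtype (p := fun x => x ≠ x₀)).codRestrict (MulAction.stabilizer (Equiv.Perm Ω) x₀)
      (fun π => Equiv.Perm.ofSubtype_apply_of_not_mem π (by simp)))
    (by
      constructor
      · intro a b h
        exact Equiv.Perm.ofSubtype_injective (congrArg Subtype.val h)
      · rintro ⟨g, hg⟩
        have hg0 : g x₀ = x₀ := hg
        have h1 : ∀ x, g x ≠ x₀ ↔ x ≠ x₀ := by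
          intro x
          rw [not_iff_not]
          constructor
          · intro h; apply g.injective; rw [h, hg0]
          · rintro rfl; exact hg0
        refine ⟨g.subtypePerm h1, Subtype.ext ?_⟩
        refine Equiv.Perm.ofSubtype_subtypePerm h1 ?_
        intro x hx hx0
        apply hx
        rw [hx0, hg0])

theorem ptEquiv_apply [Fintype Ω] [DecidableEq Ω] (x₀ : Ω) (π : Equiv.Perm {x : Ω // x ≠ x₀}) :
    (ptEquiv x₀ π : Equiv.Perm Ω) = Equiv.Perm.ofSubtype π := rfl

/-- maximal set stabiliser in a point stabiliser -/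
theorem inf_stab_isCoatom [Fintype Ω] [DecidableEq Ω] (x₀ : Ω) (A : Set Ω)
    (h1 : ∃ x ∈ A, x ≠ x₀) (h2 : ∃ x ∉ A, x ≠ x₀)
    (h3 : Nat.card {x : Ω // x ≠ x₀} ≠ 2 * Set.ncard {x : {x : Ω // x ≠ x₀} | x.1 ∈ A}) :
    IsCoatom ((MulAction.stabilizer (Equiv.Perm Ω) x₀ ⊓ MulAction.stabilizer (Equiv.Perm Ω) A).subgroupOf
      (MulAction.stabilizer (Equiv.Perm Ω) x₀)) := by
  classical
  have hc : IsCoatom (MulAction.stabilizer (Equiv.Perm {x : Ω // x ≠ x₀}) {x : {x : Ω // x ≠ x₀} | x.1 ∈ A}) := by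
    apply Equiv.Perm.isCoatom_stabilizer
    · obtain ⟨x, hx, hx0⟩ := h1
      exact ⟨⟨x, hx0⟩, hx⟩
    · obtain ⟨x, hx, hx0⟩ := h2
      exact ⟨⟨x, hx0⟩, hx⟩
    · exact h3
  have := isCoatom_map (ptEquiv x₀) _ hc
  convert this using 1
  ext ⟨g, hg⟩
  obtain ⟨π, hπ⟩ := (ptEquiv x₀).surjective ⟨g, hg⟩
  rw [← hπ]
  simp only [Subgroup.mem_subgroupOf, Subgroup.mem_inf, Subgroup.mem_map]
  constructor
  · rintro ⟨_, h⟩
    refine ⟨π, ?_, rfl⟩
    rw [MulAction.mem_stabilizer_iff] at h ⊢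
    rw [smul_set_eq_iff] at h ⊢
    intro x
    have := h x.1
    rw [ptEquiv_apply, Equiv.Perm.ofSubtype_apply_coe] at this
    exact this
  · rintro ⟨ρ, hρ, hρπ⟩
    have hρπ' : ρ = π := (ptEquiv x₀).injective hρπ
    subst hρπ'
    refine ⟨(ptEquiv x₀ ρ).2, ?_⟩
    rw [MulAction.mem_stabilizer_iff] at hρ ⊢
    rw [smul_set_eq_iff] at hρ ⊢
    intro x
    by_cases hx : x = x₀
    · subst hx
      rw [ptEquiv_apply, Equiv.Perm.ofSubtype_apply_of_not_mem _ (by simp)]
    · have := hρ ⟨x, hx⟩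
      rw [ptEquiv_apply, Equiv.Perm.ofSubtype_apply_of_mem ρ hx]
      exact this

end CfsgLib.ClassGeo.PermSub

namespace CfsgLib.ClassGeo.PermSub

open scoped Pointwise

theorem second_max_example (m : ℕ) (hm : 2 ≤ m) :
    ∃ M H K : Subgroup (Equiv.Perm (Fin (2 * m))), IsCoatom M ∧ M.index = 2 * m ∧ H ≤ M ∧ IsCoatom (H.subgroupOf M) ∧
      IsCoatom K ∧ H ≤ K ∧ ¬ IsCoatom (H.subgroupOf K) := by
  classical
  have hm0 : 0 < 2 * m := by omega
  let x₀ : Fin (2 * m) := ⟨0, hm0⟩
  let x₁ : Fin (2 * m) := ⟨1, by omega⟩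
  let xm : Fin (2 * m) := ⟨m, by omega⟩
  let A : Set (Fin (2 * m)) := {x | x.1 < m}
  have hx₀A : x₀ ∈ A := show 0 < m by omega
  have hx₁A : x₁ ∈ A := show 1 < m by omega
  have hxmA : xm ∉ A := fun h => lt_irrefl m h
  have hx01 : x₀ ≠ x₁ := by simp [x₀, x₁, Fin.ext_iff]
  let f : Fin (2 * m) → Fin 2 := fun x => if x.1 < m then 0 else 1
  have hfA : ∀ x, f x = 0 ↔ x ∈ A := by
    intro x
    show (if x.1 < m then (0 : Fin 2) else 1) = 0 ↔ x.1 < m
    split_ifs with h <;> simp [h]
  have hf : ∀ i : Fin 2, Nat.card {x : Fin (2 * m) // f x = i} = m := by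
    intro i
    fin_cases i
    · have e : {x : Fin (2 * m) // f x = 0} ≃ Fin m :=
        { toFun := fun x => ⟨x.1.1, (hfA x.1).mp x.2⟩
          invFun := fun y => ⟨⟨y.1, by omega⟩, (hfA _).mpr y.2⟩
          left_inv := fun x => by simp
          right_inv := fun y => by simp }
      have := Nat.card_congr e
      simpa using this
    · have hn : ∀ x : Fin (2 * m), f x = 1 ↔ ¬ x.1 < m := by
        intro x
        show (if x.1 < m then (0 : Fin 2) else 1) = 1 ↔ ¬ x.1 < m
        split_ifs with h <;> simp [h]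
      have e : {x : Fin (2 * m) // f x = 1} ≃ Fin m :=
        { toFun := fun x => ⟨x.1.1 - m, by have := (hn x.1).mp x.2; have := x.1.2; omega⟩
          invFun := fun y => ⟨⟨y.1 + m, by omega⟩, (hn _).mpr (by simp)⟩
          left_inv := fun x => by
            apply Subtype.ext; apply Fin.ext
            have := (hn x.1).mp x.2
            simp; omega
          right_inv := fun y => by simp }
      have := Nat.card_congr e
      simpa using this
  have hcK := partStab_isCoatom m 2 hm (by omega) f hf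
  have hstabK : ∀ g ∈ MulAction.stabilizer (Equiv.Perm (Fin (2 * m))) A, g ∈ partStab f := by
    intro g hg
    rw [MulAction.mem_stabilizer_iff, smul_set_eq_iff] at hg
    have key : ∀ x, f (g x) = f x := by
      intro x
      have h1 : (g x).1 < m ↔ x.1 < m := hg x
      show (if (g x).1 < m then (0 : Fin 2) else 1) = (if x.1 < m then (0 : Fin 2) else 1)
      simp only [h1]
    rw [mem_partStab]
    intro x y
    rw [key, key]
  refine ⟨MulAction.stabilizer (Equiv.Perm (Fin (2 * m))) x₀,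
    MulAction.stabilizer (Equiv.Perm (Fin (2 * m))) x₀ ⊓ MulAction.stabilizer (Equiv.Perm (Fin (2 * m))) A,
    partStab f, ?_, ?_, inf_le_left, ?_, hcK, ?_, ?_⟩
  · have heq : MulAction.stabilizer (Equiv.Perm (Fin (2 * m))) x₀ =
        MulAction.stabilizer (Equiv.Perm (Fin (2 * m))) ({x₀} : Set (Fin (2 * m))) := by
      ext g
      rw [MulAction.mem_stabilizer_iff, MulAction.mem_stabilizer_iff, Set.smul_set_singleton,
        Set.singleton_eq_singleton_iff]
    rw [heq]
    apply Equiv.Perm.isCoatom_stabilizer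
    · exact ⟨x₀, rfl⟩
    · exact ⟨x₁, fun h => hx01 (Set.mem_singleton_iff.mp h).symm⟩
    · rw [Set.ncard_singleton, Nat.card_fin]; omega
  · rw [MulAction.index_stabilizer, MulAction.orbit_eq_univ, Set.ncard_univ, Nat.card_fin]
  · apply inf_stab_isCoatom x₀ A ⟨x₁, hx₁A, hx01.symm⟩ ⟨xm, hxmA, ?_⟩
    · have hc : Nat.card {x : Fin (2 * m) // x ≠ x₀} = 2 * m - 1 := by
        rw [Nat.card_eq_fintype_card, Fintype.card_subtype_compl, Fintype.card_fin, Fintype.card_subtype_eq]
      rw [hc]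
      omega
    · simp [xm, x₀, Fin.ext_iff]; omega
  · exact fun g hg => hstabK g hg.2
  · intro hco
    -- the intermediate subgroup
    have hlt : (MulAction.stabilizer (Equiv.Perm (Fin (2 * m))) x₀ ⊓ MulAction.stabilizer (Equiv.Perm (Fin (2 * m))) A).subgroupOf (partStab f)
        < (MulAction.stabilizer (Equiv.Perm (Fin (2 * m))) A).subgroupOf (partStab f) := by
      refine lt_of_le_of_ne (fun g hg => hg.2) ?_
      intro heq
      have hsw : Equiv.swap x₀ x₁ ∈ MulAction.stabilizer (Equiv.Perm (Fin (2 * m))) A := by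
        rw [MulAction.mem_stabilizer_iff, smul_set_eq_iff]
        intro x
        by_cases h0 : x = x₀
        · subst h0; rw [Equiv.swap_apply_left]; exact ⟨fun _ => hx₀A, fun _ => hx₁A⟩
        · by_cases h1 : x = x₁
          · subst h1; rw [Equiv.swap_apply_right]; exact ⟨fun _ => hx₁A, fun _ => hx₀A⟩
          · rw [Equiv.swap_apply_of_ne_of_ne h0 h1]
      have hmem : (⟨Equiv.swap x₀ x₁, hstabK _ hsw⟩ : partStab f) ∈ (MulAction.stabilizer (Equiv.Perm (Fin (2 * m))) A).subgroupOf (partStab f) := hsw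
      rw [← heq] at hmem
      have h2 : Equiv.swap x₀ x₁ x₀ = x₀ := hmem.1
      rw [Equiv.swap_apply_left] at h2
      exact hx01 h2.symm
    have htop := hco.2 _ hlt
    obtain ⟨g, hgK, hg⟩ := exists_block_perm m 2 f hf (Equiv.swap 0 1)
    have hg1 : (⟨g, hgK⟩ : partStab f) ∈ (MulAction.stabilizer (Equiv.Perm (Fin (2 * m))) A).subgroupOf (partStab f) := by
      rw [htop]; trivial
    have hg2 : g ∈ MulAction.stabilizer (Equiv.Perm (Fin (2 * m))) A := hg1
    rw [MulAction.mem_stabilizer_iff, smul_set_eq_iff] at hg2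
    have h3 := (hg2 x₀).mpr hx₀A
    have h4 := (hfA _).mpr h3
    rw [hg x₀, (hfA x₀).mpr hx₀A, Equiv.swap_apply_left] at h4
    exact absurd h4 (by decide)

end CfsgLib.ClassGeo.PermSub
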