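import Mathlib
import Cfsg.Agent.Lib.ClassGeo.Quat

set_option autoImplicit false
set_option linter.unusedSimpArgs false
set_option linter.unusedVariables false

namespace CfsgLib.ClassGeo

open Matrix

variable {G : Type*} [Group G]

/-- Quaternion subgroup from `a x a = x`, `a² = x²` and `order a = 2n`. -/
theorem exists_quat_of_rel (n : ℕ) [NeZero n] (a x : G) (hn : x ^ 2 = a ^ n) (haxa : a * x * a = x)
    (hord : orderOf a = 2 * n) (ha2 : a ^ 2 ≠ 1) :
    ∃ Q : Subgroup G, a ∈ Q ∧ x ∈ Q ∧ Nat.card Q = 4 * n ∧ Nonempty (Q ≃* QuaternionGroup n) := by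
  apply exists_quat_subgroup n a x hn
  · have h1 : a * x = x * a⁻¹ := by
      rw [eq_mul_inv_iff_mul_eq]; exact haxa
    rw [mul_assoc, h1]
    group
  · exact hord
  · intro hmem
    have hc : Commute x a := by
      obtain ⟨k, rfl⟩ := Subgroup.mem_zpowers_iff.mp hmem
      exact (Commute.refl a).zpow_left k
    apply ha2
    have h2 : a * x * a = a * a * x := by
      rw [mul_assoc, hc.eq, mul_assoc]
    rw [haxa, ← sq] at h2
    have : x = a ^ 2 * x := h2
    have h3 : a ^ 2 * x * x⁻¹ = x * x⁻¹ := by rw [← this]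
    simpa using h3

variable {F : Type*} [Field F]

/-- The matrix `[[0,-1],[1,0]]` in `SL₂`. -/
def sl2A : SpecialLinearGroup (Fin 2) F := ⟨!![0, -1; 1, 0], by simp [det_fin_two]⟩

/-- The matrix `[[s,t],[t,-s]]` in `SL₂`, with `s² + t² = -1`. -/
def sl2X (s t : F) (h : s ^ 2 + t ^ 2 = -1) : SpecialLinearGroup (Fin 2) F :=
  ⟨!![s, t; t, -s], by
    rw [det_fin_two_of]
    linear_combination -h⟩

theorem sl2A_sq : ((sl2A : SpecialLinearGroup (Fin 2) F) ^ 2 : SpecialLinearGroup (Fin 2) F) = -1 := by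
  rw [sq]
  apply Subtype.ext
  change (!![0, -1; 1, 0] * !![0, -1; 1, 0] : Matrix (Fin 2) (Fin 2) F) = -1
  ext i j
  fin_cases i <;> fin_cases j <;> simp [Matrix.mul_apply, Fin.sum_univ_two]

theorem sl2X_sq (s t : F) (h : s ^ 2 + t ^ 2 = -1) : (sl2X s t h) ^ 2 = -1 := by
  rw [sq]
  apply Subtype.ext
  change (!![s, t; t, -s] * !![s, t; t, -s] : Matrix (Fin 2) (Fin 2) F) = -1
  ext i j
  fin_cases i <;> fin_cases j <;> simp [Matrix.mul_apply, Fin.sum_univ_two]
  · linear_combination h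
  · ring
  · ring
  · linear_combination h

theorem sl2_axa (s t : F) (h : s ^ 2 + t ^ 2 = -1) : sl2A * (sl2X s t h) * sl2A = sl2X s t h := by
  apply Subtype.ext
  change (!![0, -1; 1, 0] * !![s, t; t, -s] * !![0, -1; 1, 0] : Matrix (Fin 2) (Fin 2) F) = !![s, t; t, -s]
  ext i j
  fin_cases i <;> fin_cases j <;> simp [Matrix.mul_apply, Fin.sum_univ_two]

theorem sl2_neg_one_ne (h2 : (2 : F) ≠ 0) : (-1 : SpecialLinearGroup (Fin 2) F) ≠ 1 := by
  intro h
  have := congrArg (fun g : SpecialLinearGroup (Fin 2) F => (g : Matrix (Fin 2) (Fin 2) F) 0 0) h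
  simp at this
  apply h2
  linear_combination -this

/-- `SL₂(F)` contains a quaternion group of order 8 if `-1` is a sum of two squares. -/
theorem exists_Q8 (h2 : (2 : F) ≠ 0) (s t : F) (h : s ^ 2 + t ^ 2 = -1) :
    ∃ Q : Subgroup (SpecialLinearGroup (Fin 2) F), Nat.card Q = 8 ∧ Nonempty (Q ≃* QuaternionGroup 2) := by
  have hne := sl2_neg_one_ne h2
  have hord : orderOf (sl2A : SpecialLinearGroup (Fin 2) F) = 2 * 2 := by
    have : orderOf (sl2A : SpecialLinearGroup (Fin 2) F) = 2 ^ (1 + 1) := by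
      apply orderOf_eq_prime_pow
      · rw [pow_one, sl2A_sq]
        exact hne
      · change sl2A ^ (2 ^ 2) = 1
        rw [show (2 : ℕ) ^ 2 = 2 * 2 by norm_num, pow_mul, sl2A_sq]
        simp
    simpa using this
  obtain ⟨Q, _, _, hc, hi⟩ := exists_quat_of_rel 2 sl2A (sl2X s t h) (by rw [sl2A_sq, sl2X_sq]) (sl2_axa s t h) hord
    (by rw [sl2A_sq]; exact hne)
  exact ⟨Q, by rw [hc], hi⟩

end CfsgLib.ClassGeo
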