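import Mathlib
import Cfsg.Agent.Lib.H9.PSL2Class
import Cfsg.Agent.Lib.H9.PSL2Cover
import Cfsg.Agent.Lib.ClassGeo.SL2Q8
import Cfsg.Agent.Lib.ClassGeo.GL2Sylow

/-! Elements of order four of `SL₂(q)`, involutions of `PSL₂(q)`, `q` odd. -/

set_option autoImplicit false
set_option linter.unusedVariables false
set_option linter.style.haveILetI false
set_option linter.unusedSectionVars false
set_option linter.unusedSimpArgs false

namespace CfsgLib.ClassGeo.SL2Inv

open CfsgLib.H9.SL2Cl Matrix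
open CfsgLib.H9.BorelChar (zS zS_00 zS_01 zS_10 zS_11 zS_central zS_sq)
open CfsgLib.H9.Torus CfsgLib.H9.PSL2

variable {F : Type*} [Field F] [Fintype F]

theorem ch (x : SL2 F) :
    (x * x).1 0 0 = -1 + trS x * x.1 0 0 ∧ (x * x).1 0 1 = trS x * x.1 0 1 ∧
    (x * x).1 1 0 = trS x * x.1 1 0 ∧ (x * x).1 1 1 = -1 + trS x * x.1 1 1 := by
  have hd := det_eq x
  simp only [mul_00, mul_01, mul_10, mul_11, trS]
  refine ⟨?_, ?_, ?_, ?_⟩
  · linear_combination -hd
  · ring
  · ring
  · linear_combination -hd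

theorem tr0_of_sq {x : SL2 F} (h : x * x = zS F) : trS x = 0 := by
  obtain ⟨h00, h01, h10, h11⟩ := ch x
  rw [h] at h00 h01 h10 h11
  simp only [zS_00, zS_01, zS_10, zS_11] at h00 h01 h10 h11
  have hd := det_eq x
  by_contra h0
  have e00 : x.1 0 0 = 0 := by
    have : trS x * x.1 0 0 = 0 := by linear_combination -h00
    exact (mul_eq_zero.1 this).resolve_left h0
  have e01 : x.1 0 1 = 0 := (mul_eq_zero.1 h01.symm).resolve_left h0
  rw [e00, e01] at hd
  simp at hd

theorem sq_of_tr0 {x : SL2 F} (h : trS x = 0) : x * x = zS F := by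
  obtain ⟨h00, h01, h10, h11⟩ := ch x
  rw [h] at h00 h01 h10 h11
  apply sl_ext
  · rw [h00]; simp
  · rw [h01]; simp
  · rw [h10]; simp
  · rw [h11]; simp

theorem zS_mul_zS : zS F * zS F = 1 := zS_sq

theorem zS_ne_one (h2 : (2 : F) ≠ 0) : zS F ≠ 1 := by
  intro h
  have h1 := congrArg (fun x : SL2 F => x.1 0 0) h
  simp only [zS_00, one_00] at h1
  apply h2
  linear_combination -h1

theorem sq_one_cases (h2 : (2 : F) ≠ 0) {x : SL2 F} (h : x * x = 1) : x = 1 ∨ x = zS F := by
  obtain ⟨h00, h01, h10, h11⟩ := ch x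
  rw [h] at h00 h01 h10 h11
  simp only [one_00, one_01, one_10, one_11] at h00 h01 h10 h11
  have h0 : trS x ≠ 0 := by
    intro h0
    rw [h0] at h00
    apply h2
    linear_combination h00
  have e01 : x.1 0 1 = 0 := (mul_eq_zero.1 h01.symm).resolve_left h0
  have e10 : x.1 1 0 = 0 := (mul_eq_zero.1 h10.symm).resolve_left h0
  have e : x.1 0 0 = x.1 1 1 := by
    have : trS x * (x.1 0 0 - x.1 1 1) = 0 := by linear_combination h11 - h00
    exact sub_eq_zero.1 ((mul_eq_zero.1 this).resolve_left h0)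
  rw [← isSc_iff]
  refine ⟨?_, ?_, ?_⟩
  · simpa using e01
  · simpa using e10
  · simpa using e

theorem pr_sq_one_lift (h2 : (2 : F) ≠ 0) {x : SL2 F} (h : pr x * pr x = 1) (h1 : pr x ≠ 1) : trS x = 0 := by
  have h3 : pr (x * x) = 1 := h
  rw [pr_eq_one_iff] at h3
  rcases h3 with h3 | h3
  · exfalso
    apply h1
    rw [pr_eq_one_iff]
    exact sq_one_cases h2 h3
  · exact tr0_of_sq h3

theorem pr_ne_one_of_tr0 (h2 : (2 : F) ≠ 0) {x : SL2 F} (h : trS x = 0) : pr x ≠ 1 := by
  intro h1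
  rw [pr_eq_one_iff] at h1
  have h3 := sq_of_tr0 h
  rcases h1 with rfl | rfl
  · rw [mul_one] at h3
    exact zS_ne_one h2 h3.symm
  · rw [zS_sq] at h3
    exact zS_ne_one h2 h3.symm

theorem pr_sq_of_tr0 {x : SL2 F} (h : trS x = 0) : pr x * pr x = 1 := by
  show pr (x * x) = 1
  rw [sq_of_tr0 h]
  exact pr_zS

/-- Trace zero elements in terms of anticommutation: elements anticommuting with an element have trace zero. -/
theorem tr0_of_anti (h2 : (2 : F) ≠ 0) {x y : SL2 F} (h : y * x = zS F * (x * y)) : trS y = 0 := by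
  have h3 : x * y * x⁻¹ = zS F * y := by
    have h4 : x * y = zS F * (y * x) := by
      rw [h, ← mul_assoc, zS_sq, one_mul]
    rw [h4, mul_assoc, mul_assoc]
    simp
  have h5 : trS y = trS (zS F * y) := trS_conj (isConj_iff.mpr ⟨x, h3⟩)
  rw [trS_zS_mul] at h5
  have h6 : 2 * trS y = 0 := by linear_combination h5
  exact (mul_eq_zero.1 h6).resolve_left h2

theorem conj_tr0 (h2 : (2 : F) ≠ 0) {x y : SL2 F} (hx : trS x = 0) (hy : trS y = 0) : IsConj x y := by
  refine conj_all (not_sc_of_tr_zero h2 hx) (not_sc_of_tr_zero h2 hy) (by rw [hx, hy]) ?_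
  rw [hx]
  intro h
  apply h2
  have h4 : (2 : F) * 2 = 0 := by linear_combination -h
  exact (mul_eq_zero.1 h4).elim id id

theorem card_cent_tr0_of_ne (h2 : (2 : F) ≠ 0) {x : SL2 F} (hx : trS x = 0) (hs : IsSquare (-1 : F)) :
    Nat.card (Subgroup.centralizer ({x} : Set (SL2 F))) = Fintype.card F - 1 := by
  refine card_cent_reg (not_sc_of_tr_zero h2 hx) ?_ ?_
  · rw [hx]
    intro h
    apply h2
    have h4 : (2 : F) * 2 = 0 := by linear_combination -h
    exact (mul_eq_zero.1 h4).elim id id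
  · intro hE
    obtain ⟨r, hr⟩ := hs
    apply ell_iff.1 hE r
    rw [hx]
    linear_combination -hr

theorem ell_of_nonsq {x : SL2 F} (hx : trS x = 0) (hs : ¬ IsSquare (-1 : F)) : Ell x := by
  rw [ell_iff]
  intro l hl
  apply hs
  refine ⟨l, ?_⟩
  rw [hx] at hl
  linear_combination -hl

theorem card_cent_tr0 (hodd : Odd (Fintype.card F)) {x : SL2 F} (hx : trS x = 0) :
    (Fintype.card F % 4 = 1 → Nat.card (Subgroup.centralizer ({x} : Set (SL2 F))) = Fintype.card F - 1) ∧
    (Fintype.card F % 4 = 3 → Nat.card (Subgroup.centralizer ({x} : Set (SL2 F))) = Fintype.card F + 1) := by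
  have h2 := two_ne hodd
  constructor
  · intro h
    apply card_cent_tr0_of_ne h2 hx
    rw [FiniteField.isSquare_neg_one_iff]
    omega
  · intro h
    apply cent_card hodd
    apply ell_of_nonsq hx
    rw [FiniteField.isSquare_neg_one_iff]
    omega

theorem card_hat (hodd : Odd (Fintype.card F)) {x : SL2 F} (hx : trS x = 0) :
    Nat.card (hat x) = 2 * Nat.card (Subgroup.centralizer ({x} : Set (SL2 F))) := by
  have h2 := two_ne hodd
  have hle : Subgroup.centralizer ({x} : Set (SL2 F)) ≤ hat x := by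
    intro y hy
    rw [mem_hat]
    exact Or.inl (Subgroup.mem_centralizer_singleton_iff.mp hy)
  have h1 := Subgroup.relIndex_mul_index hle
  rw [hat_rel (Nat.odd_iff.mp hodd) h2 hx] at h1
  have h3 := Subgroup.card_mul_index (Subgroup.centralizer ({x} : Set (SL2 F)))
  have h4 := Subgroup.card_mul_index (hat x)
  rw [← h1, ← h4] at h3
  have h5 : (hat x).index ≠ 0 := Subgroup.index_ne_zero_of_finite
  have h6 : (Nat.card (Subgroup.centralizer ({x} : Set (SL2 F))) * 2) * (hat x).index = Nat.card (hat x) * (hat x).index := by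
    rw [← h3]
    ring
  have h7 := Nat.eq_of_mul_eq_mul_right (Nat.pos_of_ne_zero h5) h6
  omega

/-- An order four subgroup of `SL₂(q)`, `q` odd. -/
theorem exists_gen (h2 : (2 : F) ≠ 0) (A : Subgroup (SL2 F)) (hA : Nat.card A = 4) :
    ∃ x : SL2 F, trS x = 0 ∧ A = Subgroup.zpowers x := by
  classical
  obtain ⟨x, hxA, hx1, hxz⟩ : ∃ x ∈ A, x ≠ 1 ∧ x ≠ zS F := by
    by_contra hcon
    push Not at hcon
    haveI := Fintype.ofFinite A
    have h3 : 2 < Fintype.card A := by
      rw [← Nat.card_eq_fintype_card, hA]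
      norm_num
    obtain ⟨a, b, c, hab, hac, hbc⟩ := Fintype.two_lt_card_iff.1 h3
    have key : ∀ y : A, (y : SL2 F) = 1 ∨ (y : SL2 F) = zS F := by
      intro y
      by_cases h1 : (y : SL2 F) = 1
      · exact Or.inl h1
      · exact Or.inr (hcon y y.2 h1)
    have hne : ∀ u v : A, u ≠ v → (u : SL2 F) ≠ v := fun u v h h' => h (Subtype.ext h')
    rcases key a with ha | ha <;> rcases key b with hb | hb <;> rcases key c with hc | hc
    · exact hne _ _ hab (ha.trans hb.symm)
    · exact hne _ _ hab (ha.trans hb.symm)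
    · exact hne _ _ hac (ha.trans hc.symm)
    · exact hne _ _ hbc (hb.trans hc.symm)
    · exact hne _ _ hbc (hb.trans hc.symm)
    · exact hne _ _ hac (ha.trans hc.symm)
    · exact hne _ _ hab (ha.trans hb.symm)
    · exact hne _ _ hab (ha.trans hb.symm)
  have h4 : x ^ 4 = 1 := by
    have := pow_card_eq_one' (G := A) (x := ⟨x, hxA⟩)
    rw [hA] at this
    exact congrArg Subtype.val this
  have h5 : (x * x) * (x * x) = 1 := by
    rw [← h4, show (4 : ℕ) = 2 * 2 by norm_num, pow_mul, pow_two x, pow_two (x * x)]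
  have h6 : x * x = zS F := by
    rcases sq_one_cases h2 h5 with h | h
    · rcases sq_one_cases h2 h with h' | h'
      · exact absurd h' hx1
      · exact absurd h' hxz
    · exact h
  have hord : orderOf x = 4 := by
    have : orderOf x = 2 ^ (1 + 1) := by
      apply orderOf_eq_prime_pow
      · rw [pow_one, pow_two, h6]
        exact zS_ne_one h2
      · rw [show (2 : ℕ) ^ (1 + 1) = 4 by norm_num]
        exact h4
    simpa using this
  refine ⟨x, tr0_of_sq h6, ?_⟩
  symm
  apply Subgroup.eq_of_le_of_card_ge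
  · rw [Subgroup.zpowers_le]
    exact hxA
  · rw [hA, Nat.card_zpowers, hord]

theorem zpowers_card (h2 : (2 : F) ≠ 0) {x : SL2 F} (hx : trS x = 0) : Nat.card (Subgroup.zpowers x) = 4 := by
  have h6 := sq_of_tr0 hx
  have hord : orderOf x = 4 := by
    have : orderOf x = 2 ^ (1 + 1) := by
      apply orderOf_eq_prime_pow
      · rw [pow_one, pow_two, h6]
        exact zS_ne_one h2
      · rw [show (2 : ℕ) ^ (1 + 1) = 2 * 2 by norm_num, pow_mul, pow_two x, h6, pow_two, zS_sq]
    simpa using this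
  rw [Nat.card_zpowers, hord]

theorem orderOf_tr0 (h2 : (2 : F) ≠ 0) {x : SL2 F} (hx : trS x = 0) : orderOf x = 4 := by
  have := zpowers_card h2 hx
  rwa [Nat.card_zpowers] at this

theorem mul_zS_mul {x : SL2 F} (hx : trS x = 0) : x * (zS F * x) = 1 := by
  have h6 := sq_of_tr0 hx
  rw [← mul_assoc, ← zS_central, mul_assoc, h6, zS_sq]

theorem inv_tr0 {x : SL2 F} (hx : trS x = 0) : x⁻¹ = zS F * x :=
  inv_eq_of_mul_eq_one_right (mul_zS_mul hx)

theorem mem_zp (h2 : (2 : F) ≠ 0) {x : SL2 F} (hx : trS x = 0) (y : SL2 F) :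
    y ∈ Subgroup.zpowers x ↔ y = 1 ∨ y = x ∨ y = zS F ∨ y = zS F * x := by
  have h6 := sq_of_tr0 hx
  constructor
  · intro hy
    obtain ⟨k, rfl⟩ := Subgroup.mem_zpowers_iff.1 hy
    rw [← zpow_mod_orderOf, orderOf_tr0 h2 hx]
    have hk : k % ((4 : ℕ) : ℤ) = 0 ∨ k % ((4 : ℕ) : ℤ) = 1 ∨ k % ((4 : ℕ) : ℤ) = 2 ∨ k % ((4 : ℕ) : ℤ) = 3 := by
      push_cast
      omega
    rcases hk with h | h | h | h <;> rw [h]
    · simp
    · simp
    · right; right; left
      rw [← h6]
      exact zpow_two x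
    · right; right; right
      rw [← h6]
      rw [show (3 : ℤ) = 2 + 1 by norm_num, _root_.zpow_add, zpow_two, zpow_one]
  · rintro (rfl | rfl | rfl | rfl)
    · exact Subgroup.one_mem _
    · exact Subgroup.mem_zpowers _
    · rw [← h6]
      exact Subgroup.mul_mem _ (Subgroup.mem_zpowers _) (Subgroup.mem_zpowers _)
    · rw [← h6]
      exact Subgroup.mul_mem _ (Subgroup.mul_mem _ (Subgroup.mem_zpowers _) (Subgroup.mem_zpowers _)) (Subgroup.mem_zpowers _)

theorem hat_conj_mem (h2 : (2 : F) ≠ 0) {x g h : SL2 F} (hx : trS x = 0) (hg : g ∈ hat x) (hh : h ∈ Subgroup.zpowers x) :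
    g * h * g⁻¹ ∈ Subgroup.zpowers x := by
  rw [mem_zp h2 hx] at hh ⊢
  have hz : g * zS F * g⁻¹ = zS F := by
    rw [← zS_central, mul_assoc]
    simp
  rw [mem_hat] at hg
  rcases hg with hg | hg
  · have e : g * x * g⁻¹ = x := by rw [hg]; simp
    rcases hh with rfl | rfl | rfl | rfl
    · left; simp
    · right; left; exact e
    · right; right; left; exact hz
    · right; right; right
      rw [show g * (zS F * x) * g⁻¹ = (g * zS F * g⁻¹) * (g * x * g⁻¹) by group, hz, e]
  · have e : g * x * g⁻¹ = zS F * x := by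
      rw [hg, mul_assoc, mul_assoc]
      simp
    rcases hh with rfl | rfl | rfl | rfl
    · left; simp
    · right; right; right; exact e
    · right; right; left; exact hz
    · right; left
      rw [show g * (zS F * x) * g⁻¹ = (g * zS F * g⁻¹) * (g * x * g⁻¹) by group, hz, e, ← mul_assoc, zS_sq, one_mul]

theorem normalizer_zp (h2 : (2 : F) ≠ 0) {x : SL2 F} (hx : trS x = 0) :
    Subgroup.normalizer ((Subgroup.zpowers x : Subgroup (SL2 F)) : Set (SL2 F)) = hat x := by
  ext g
  constructor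
  · intro hg
    have h1 := (Subgroup.mem_normalizer_iff.1 hg x).1 (Subgroup.mem_zpowers x)
    rw [mem_zp h2 hx] at h1
    rw [mem_hat]
    have h6 := sq_of_tr0 hx
    rcases h1 with h1 | h1 | h1 | h1
    · exfalso
      have : x = 1 := by
        have h3 : g * x = 1 * g := mul_inv_eq_iff_eq_mul.1 h1
        simpa using h3
      rw [this] at h6
      simp only [mul_one] at h6
      exact zS_ne_one h2 h6.symm
    · left
      exact mul_inv_eq_iff_eq_mul.1 h1
    · exfalso
      have h3 : g * x = zS F * g := mul_inv_eq_iff_eq_mul.1 h1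
      rw [zS_central] at h3
      have h4 : x = zS F := by
        have := mul_left_cancel h3
        exact this
      rw [h4, zS_sq] at h6
      exact zS_ne_one h2 h6.symm
    · right
      have h3 : g * x = zS F * x * g := mul_inv_eq_iff_eq_mul.1 h1
      rw [h3, mul_assoc]
  · intro hg
    rw [Subgroup.mem_normalizer_iff]
    intro h
    constructor
    · intro hh
      exact hat_conj_mem h2 hx hg hh
    · intro hh
      have h3 := hat_conj_mem h2 hx ((hat x).inv_mem hg) hh
      have e : g⁻¹ * (g * h * g⁻¹) * g⁻¹⁻¹ = h := by group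
      rwa [e] at h3

/-- All involutions of `PSL₂(q)`, `q` odd, are conjugate. -/
theorem isConj_invol (h2 : (2 : F) ≠ 0) {s t : ProjectiveSpecialLinearGroup (Fin 2) F} (hs : s * s = 1) (hs1 : s ≠ 1)
    (ht : t * t = 1) (ht1 : t ≠ 1) : IsConj s t := by
  obtain ⟨a, rfl⟩ := pr_surj s
  obtain ⟨b, rfl⟩ := pr_surj t
  have h1 := pr_sq_one_lift h2 hs hs1
  have h3 := pr_sq_one_lift h2 ht ht1
  exact MonoidHom.map_isConj (prH : SL2 F →* _) (conj_tr0 h2 h1 h3)

end CfsgLib.ClassGeo.SL2Inv
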